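import Mathlib
import Groth.Agent.RegImmLib.Basic
import Groth.Prelude.Def_Mor2

/-!
# Composition of regular closed immersions
-/

set_option autoImplicit false
set_option linter.style.haveILetI false
set_option backward.isDefEq.respectTransparency.types false

universe u

open AlgebraicGeometry CategoryTheory RingTheory.Sequence

namespace Groth.Agent.RegImmLib

open Groth.Agent.KRegLib

/-- A weakly regular sequence generating the kernel restricts to a basic open. -/
theorem restrict_regular {Z X : Scheme.{u}} (i : Z ⟶ X) {U : X.Opens} (hU : IsAffineOpen U)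
    [IsClosedImmersion (i ∣_ U)] (g : Γ(X, U)) {rs : List Γ(X, U)} (hrs : IsWeaklyRegular Γ(X, U) rs)
    (hker : RingHom.ker (i.app U).hom = Ideal.ofList rs) :
    ∃ rs' : List Γ(X, X.basicOpen g), IsWeaklyRegular Γ(X, X.basicOpen g) rs' ∧
      RingHom.ker (i.app (X.basicOpen g)).hom = Ideal.ofList rs' := by
  obtain ⟨hU', hs⟩ := Synt29.surjective_app_of_isClosedImmersion_restrict i U hU
  letI : Algebra Γ(X, U) Γ(X, X.basicOpen g) := (X.presheaf.map (homOfLE (X.basicOpen_le g)).op).hom.toAlgebra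
  haveI : IsLocalization.Away g Γ(X, X.basicOpen g) := hU.isLocalization_basicOpen g
  haveI : Module.Flat Γ(X, U) Γ(X, X.basicOpen g) := IsLocalization.flat _ (Submonoid.powers g)
  refine ⟨rs.map (algebraMap Γ(X, U) Γ(X, X.basicOpen g)), hrs.of_flat,
    (app_basicOpen_props i hU hU' hs g).2.2.trans ?_⟩
  rw [hker]
  exact Ideal.map_ofList _ _

/-- Regular closed immersions compose. -/
theorem regClosed_comp_general {Z Y X : Scheme.{u}} {j : Z ⟶ Y} {i : Y ⟶ X}
    (hj : Mor2.IsRegularClosedImmersion j) (hi : Mor2.IsRegularClosedImmersion i) :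
    Mor2.IsRegularClosedImmersion (j ≫ i) := by
  haveI := hi.1
  haveI := hj.1
  refine ⟨inferInstance, fun z => ?_⟩
  obtain ⟨U, hU, hzU, rs, hrs, hker⟩ := hi.2 (j z)
  rw [Scheme.Hom.ker_apply] at hker
  obtain ⟨V, hV, hzV, ts, hts, hkerV⟩ := hj.2 z
  rw [Scheme.Hom.ker_apply] at hkerV
  haveI : IsClosedImmersion (i ∣_ U) := inferInstance
  haveI : IsClosedImmersion (j ∣_ V) := inferInstance
  obtain ⟨hU', hUs⟩ := Synt29.surjective_app_of_isClosedImmersion_restrict i U hU
  obtain ⟨g, g', hgg, hzg⟩ := exists_basicOpen_le_affine_inter hU' hV (j z) ⟨hzU, hzV⟩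
  obtain ⟨G, rfl⟩ := hUs g
  let W := X.basicOpen G
  have hW : IsAffineOpen W := hU.basicOpen G
  haveI : IsClosedImmersion (i ∣_ W) := inferInstance
  obtain ⟨hW', hWs⟩ := Synt29.surjective_app_of_isClosedImmersion_restrict i W hW
  obtain ⟨rs', hrs', hkerW⟩ := restrict_regular i hU G hrs.toIsWeaklyRegular hker
  obtain ⟨ts', hts', hkerW'⟩ := restrict_regular j hV g' hts.toIsWeaklyRegular hkerV
  have hpre : i ⁻¹ᵁ W = Y.basicOpen g' := (Scheme.preimage_basicOpen i G).trans hgg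
  have key : ∀ O : Y.Opens, O = Y.basicOpen g' → ∃ us : List Γ(Y, O), IsWeaklyRegular Γ(Y, O) us ∧
      RingHom.ker (j.app O).hom = Ideal.ofList us := by
    rintro O rfl
    exact ⟨ts', hts', hkerW'⟩
  obtain ⟨us, hus, hkerus⟩ := key (i ⁻¹ᵁ W) hpre
  choose l hl using fun y => hWs y
  let ls := us.map l
  have hlus : ls.map (i.app W).hom = us := by
    rw [List.map_map]
    exact (List.map_congr_left fun y _ => hl y).trans (List.map_id us)
  let K : Ideal Γ(X, W) := Ideal.ofList rs' • (⊤ : Submodule Γ(X, W) Γ(X, W))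
  have hK : K = RingHom.ker (i.app W).hom := by
    rw [hkerW]
    show Ideal.ofList rs' * ⊤ = _
    rw [Ideal.mul_top]
  let e : (Γ(X, W) ⧸ K) ≃+* Γ(Y, i ⁻¹ᵁ W) :=
    (Ideal.quotEquivOfEq hK).trans (RingHom.quotientKerEquivOfSurjective hWs)
  have happ : IsWeaklyRegular Γ(X, W) (rs' ++ ls) := by
    rw [isWeaklyRegular_append_iff]
    refine ⟨hrs', ?_⟩
    refine ((e.toAddEquiv).isWeaklyRegular_congr (as := ls) (bs := us) ?_).2 hus
    rw [← hlus]
    refine List.forall₂_map_right_iff.2 (List.forall₂_same.2 fun r _ x => ?_)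
    obtain ⟨x, rfl⟩ := Ideal.Quotient.mk_surjective x
    show (i.app W).hom (r * x) = (i.app W).hom r * (i.app W).hom x
    exact map_mul _ _ _
  have hker2 : RingHom.ker ((j ≫ i).app W).hom = Ideal.ofList (rs' ++ ls) := by
    show RingHom.ker ((j.app (i ⁻¹ᵁ W)).hom.comp (i.app W).hom) = _
    rw [← RingHom.comap_ker, hkerus, Ideal.ofList_append, ← hkerW, ← hlus]
    have h5 : (Ideal.ofList ls).map (i.app W).hom = Ideal.ofList (ls.map (i.app W).hom) := Ideal.map_ofList _ _
    rw [← h5, Ideal.comap_map_of_surjective _ hWs, ← RingHom.ker_eq_comap_bot, sup_comm]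
  have hzW : (j ≫ i) z ∈ W := by
    show j z ∈ i ⁻¹ᵁ W
    rw [hpre, ← hgg]
    exact hzg
  refine ⟨W, hW, hzW, rs' ++ ls, ⟨happ, ?_⟩, by rw [Scheme.Hom.ker_apply]; exact hker2⟩
  intro htop
  haveI : Nonempty ((j ≫ i) ⁻¹ᵁ W : Z.Opens) := ⟨⟨z, hzW⟩⟩
  have hne : Nontrivial Γ(Z, (j ≫ i) ⁻¹ᵁ W) := inferInstance
  have h1 : (1 : Γ(X, W)) ∈ RingHom.ker ((j ≫ i).app W).hom := by
    rw [hker2]
    have : (1 : Γ(X, W)) ∈ Ideal.ofList (rs' ++ ls) • (⊤ : Submodule Γ(X, W) Γ(X, W)) := htop.le Submodule.mem_top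
    rwa [smul_eq_mul, Ideal.mul_top] at this
  rw [RingHom.mem_ker, map_one] at h1
  exact one_ne_zero h1

end Groth.Agent.RegImmLib
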