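import Mathlib
import Groth.Agent.RegImmLib.RegComp
import Groth.Agent.KRegLib.Regular

/-!
# Regular closed immersions near a point and regular sequences in the local ring
-/

set_option autoImplicit false
set_option linter.style.haveILetI false
set_option backward.isDefEq.respectTransparency.types false

universe u

open AlgebraicGeometry CategoryTheory RingTheory.Sequence

namespace Groth.Agent.RegImmLib

open Groth.Agent.KRegLib

variable {Z X : Scheme.{u}} (i : Z ⟶ X)

/-- The kernel on sections of a restriction of a morphism. -/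
theorem ker_app_morphismRestrict (V : X.Opens) (W : V.toScheme.Opens) :
    RingHom.ker ((i ∣_ V).app W).hom = RingHom.ker (i.app (V.ι ''ᵁ W)).hom := by
  rw [morphismRestrict_app]
  refine RingHom.ker_comp_of_injective _ ?_
  exact (ConcreteCategory.bijective_of_isIso
    (Z.presheaf.map (eqToHom (image_morphismRestrict_preimage i V W)).op)).1

/-- The kernel of the stalk map is generated by the kernel on an affine open. -/
theorem ker_stalkMap_eq_map [IsClosedImmersion i] {U : X.Opens} (hU : IsAffineOpen U) (z : Z) (hz : i z ∈ U) :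
    RingHom.ker (i.stalkMap z).hom = (RingHom.ker (i.app U).hom).map (X.presheaf.germ U (i z) hz).hom := by
  have hV : IsAffineOpen (i ⁻¹ᵁ U) := hU.preimage i
  have hs : Function.Surjective (i.app U).hom := i.app_surjective U hU
  let φ : Γ(X, U) →+* Γ(Z, i ⁻¹ᵁ U) := (i.app U).hom
  letI : Algebra Γ(X, U) (X.presheaf.stalk (i z)) := (X.presheaf.germ U (i z) hz).hom.toAlgebra
  letI : Algebra Γ(Z, i ⁻¹ᵁ U) (Z.presheaf.stalk z) := (Z.presheaf.germ (i ⁻¹ᵁ U) z hz).hom.toAlgebra
  haveI hX : IsLocalization.AtPrime (X.presheaf.stalk (i z)) (hU.primeIdealOf ⟨i z, hz⟩).asIdeal :=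
    hU.isLocalization_stalk ⟨i z, hz⟩
  haveI hZ : IsLocalization.AtPrime (Z.presheaf.stalk z) (hV.primeIdealOf ⟨z, hz⟩).asIdeal :=
    hV.isLocalization_stalk ⟨z, hz⟩
  have hcomap : (hU.primeIdealOf ⟨i z, hz⟩).asIdeal = (hV.primeIdealOf ⟨z, hz⟩).asIdeal.comap φ := by
    rw [show φ = (i.appLE U (i ⁻¹ᵁ U) le_rfl).hom by simp only [φ, Scheme.Hom.app_eq_appLE]]
    exact (congrArg PrimeSpectrum.asIdeal
      (IsAffineOpen.comap_primeIdealOf_appLE (f := i) U hU (i ⁻¹ᵁ U) hV le_rfl hz)).symm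
  let f : X.presheaf.stalk (i z) →+* Z.presheaf.stalk z := (i.stalkMap z).hom
  have hf : ∀ a : Γ(X, U), f (algebraMap _ _ a) = algebraMap _ _ (φ a) := fun a =>
    Scheme.Hom.germ_stalkMap_apply i U z hz a
  have hM : Submonoid.map φ (hU.primeIdealOf ⟨i z, hz⟩).asIdeal.primeCompl =
      (hV.primeIdealOf ⟨z, hz⟩).asIdeal.primeCompl := by
    ext b
    constructor
    · rintro ⟨a, ha, rfl⟩ hb
      exact ha (by rw [hcomap]; exact hb)
    · intro hb
      obtain ⟨a, rfl⟩ := hs b
      exact ⟨a, fun h => hb (by rw [hcomap] at h; exact h), rfl⟩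
  have hfm : f = IsLocalization.map (Z.presheaf.stalk z) φ
      (show (hU.primeIdealOf ⟨i z, hz⟩).asIdeal.primeCompl ≤
        (hV.primeIdealOf ⟨z, hz⟩).asIdeal.primeCompl.comap φ from
        Submonoid.map_le_iff_le_comap.1 hM.le) := by
    refine IsLocalization.ringHom_ext (hU.primeIdealOf ⟨i z, hz⟩).asIdeal.primeCompl (RingHom.ext fun a => ?_)
    rw [RingHom.comp_apply, RingHom.comp_apply, hf, IsLocalization.map_eq]
  show RingHom.ker f = _
  rw [hfm]
  exact IsLocalization.ker_map (Z.presheaf.stalk z) φ hM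

/-- Regular closed immersion near a point iff the kernel of the stalk map is generated by a regular
sequence. -/
theorem regClosed_near_iff [IsLocallyNoetherian X] [IsClosedImmersion i] (z : Z) :
    (∃ V : X.Opens, i z ∈ V ∧ Mor2.IsRegularClosedImmersion (i ∣_ V)) ↔
      ∃ rs : List ↑(X.presheaf.stalk (i z)), IsRegular ↑(X.presheaf.stalk (i z)) rs ∧
        RingHom.ker (i.stalkMap z).hom = Ideal.ofList rs := by
  constructor
  · rintro ⟨V, hzV, -, h⟩
    obtain ⟨U', hU', hzU', rs, hrs, hker⟩ := h ⟨z, hzV⟩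
    have hzW : i z ∈ V.ι ''ᵁ U' := by
      refine ⟨(i ∣_ V) ⟨z, hzV⟩, hzU', ?_⟩
      exact (congrArg (fun f : (↑(i ⁻¹ᵁ V) : Scheme) ⟶ X => f ⟨z, hzV⟩) (morphismRestrict_ι i V))
    rw [Scheme.Hom.ker_apply, ker_app_morphismRestrict] at hker
    obtain ⟨rs, hrs, hker⟩ : ∃ l : List Γ(X, V.ι ''ᵁ U'), IsRegular Γ(X, V.ι ''ᵁ U') l ∧
        RingHom.ker (i.app (V.ι ''ᵁ U')).hom = Ideal.ofList l := ⟨rs, hrs, hker⟩
    have hW : IsAffineOpen (V.ι ''ᵁ U') := hU'.image_of_isOpenImmersion V.ι
    letI : Algebra Γ(X, V.ι ''ᵁ U') (X.presheaf.stalk (i z)) :=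
      (X.presheaf.germ (V.ι ''ᵁ U') (i z) hzW).hom.toAlgebra
    haveI : IsLocalization.AtPrime (X.presheaf.stalk (i z)) (hW.primeIdealOf ⟨i z, hzW⟩).asIdeal :=
      hW.isLocalization_stalk ⟨i z, hzW⟩
    haveI : Module.Flat Γ(X, V.ι ''ᵁ U') (X.presheaf.stalk (i z)) :=
      IsLocalization.flat _ (hW.primeIdealOf ⟨i z, hzW⟩).asIdeal.primeCompl
    have hgen : RingHom.ker (i.stalkMap z).hom =
        Ideal.ofList ((rs : List Γ(X, V.ι ''ᵁ U')).map (algebraMap Γ(X, V.ι ''ᵁ U') (X.presheaf.stalk (i z)))) := by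
      rw [ker_stalkMap_eq_map i hW z hzW, hker]
      exact Ideal.map_ofList _ _
    refine ⟨_, ⟨?_, ?_⟩, hgen⟩
    · exact IsWeaklyRegular.of_flat (R := Γ(X, V.ι ''ᵁ U')) hrs.toIsWeaklyRegular
    · rw [← hgen]
      intro htop
      rw [smul_eq_mul, Ideal.mul_top] at htop
      exact RingHom.ker_ne_top (i.stalkMap z).hom htop.symm
  · rintro ⟨rs, hrs, hI⟩
    obtain ⟨D, hD, hzD, -⟩ := exists_isAffineOpen_mem_and_subset (U := ⊤) (x := i z) trivial
    haveI : IsNoetherianRing Γ(X, D) := IsLocallyNoetherian.component_noetherian ⟨D, hD⟩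
    letI : Algebra Γ(X, D) (X.presheaf.stalk (i z)) := (X.presheaf.germ D (i z) hzD).hom.toAlgebra
    let 𝔭 := (hD.primeIdealOf ⟨i z, hzD⟩).asIdeal
    haveI : IsLocalization.AtPrime (X.presheaf.stalk (i z)) 𝔭 := hD.isLocalization_stalk ⟨i z, hzD⟩
    let ψ := (i.app D).hom
    let e₀ : X.presheaf.stalk (i z) ≃ₐ[Γ(X, D)] Localization.AtPrime 𝔭 :=
      IsLocalization.algEquiv 𝔭.primeCompl _ _
    have hle : RingHom.ker ψ ≤ 𝔭 := by
      intro a ha
      by_contra hap
      have hu : IsUnit (algebraMap Γ(X, D) (X.presheaf.stalk (i z)) a) :=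
        IsLocalization.map_units _ (⟨a, hap⟩ : 𝔭.primeCompl)
      have hm : algebraMap Γ(X, D) (X.presheaf.stalk (i z)) a ∈ RingHom.ker (i.stalkMap z).hom := by
        rw [ker_stalkMap_eq_map i hD z hzD]
        exact Ideal.mem_map_of_mem _ ha
      exact RingHom.ker_ne_top (i.stalkMap z).hom (Ideal.eq_top_of_isUnit_mem _ hm hu)
    obtain ⟨g, hg, rs', hrs', hrsI⟩ := KRegLib.exists_away_isRegular_of_atPrime (RingHom.ker ψ) 𝔭 hle
      (rs.map e₀).get
      (by
        rw [List.ofFn_get]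
        refine (AddEquiv.isWeaklyRegular_congr (e := e₀.toRingEquiv.toAddEquiv) (as := rs) (bs := rs.map e₀) ?_).1
          hrs.toIsWeaklyRegular
        exact List.forall₂_map_right_iff.2 (List.forall₂_same.2 fun x _ y => map_mul e₀ x y))
      (by
        rw [Set.range_list_get]
        show Ideal.ofList (rs.map e₀) = _
        have h4 : (Ideal.ofList rs).map e₀.toRingEquiv.toRingHom = Ideal.ofList (rs.map e₀) := Ideal.map_ofList _ _
        rw [← h4, ← hI, ker_stalkMap_eq_map i hD z hzD, Ideal.map_map]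
        congr 1
        exact RingHom.ext fun x => e₀.commutes x)
    letI : Algebra Γ(X, D) Γ(X, X.basicOpen g) := (X.presheaf.map (homOfLE (X.basicOpen_le g)).op).hom.toAlgebra
    haveI : IsLocalization.Away g Γ(X, X.basicOpen g) := hD.isLocalization_basicOpen g
    let e : Localization.Away g ≃ₐ[Γ(X, D)] Γ(X, X.basicOpen g) :=
      IsLocalization.algEquiv (Submonoid.powers g) _ _
    have hzg : i z ∈ X.basicOpen g := by
      rw [← hD.fromSpec_image_basicOpen g]
      exact ⟨hD.primeIdealOf ⟨i z, hzD⟩, hg, hD.fromSpec_primeIdealOf _⟩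
    have hreg' : IsRegular Γ(X, X.basicOpen g) (rs'.map e) := by
      refine (AddEquiv.isRegular_congr (e := e.toRingEquiv.toAddEquiv) (as := rs') (bs := rs'.map e) ?_).1 hrs'
      exact List.forall₂_map_right_iff.2 (List.forall₂_same.2 fun x _ y => map_mul e x y)
    have hker' : RingHom.ker (i.app (X.basicOpen g)).hom = Ideal.ofList (rs'.map e) := by
      obtain ⟨hD', hDs⟩ := Synt29.surjective_app_of_isClosedImmersion_restrict i D hD
      refine Eq.trans (KRegLib.app_basicOpen_props i hD hD' hDs g).2.2 ?_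
      have h4 : (Ideal.ofList rs').map e.toRingEquiv.toRingHom = Ideal.ofList (rs'.map e) := Ideal.map_ofList _ _
      rw [← h4, hrsI, Ideal.map_map]
      congr 1
      exact (RingHom.ext fun x => (e.commutes x)).symm
    haveI : IsAffine (X.basicOpen g).toScheme := hD.basicOpen g
    refine ⟨X.basicOpen g, hzg, inferInstance, fun z' => ⟨⊤, isAffineOpen_top _, trivial, ?_⟩⟩
    rw [Scheme.Hom.ker_apply, ker_app_morphismRestrict]
    have key : ∀ W : X.Opens, W = X.basicOpen g → ∃ l : List Γ(X, W),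
        IsRegular Γ(X, W) l ∧ RingHom.ker (i.app W).hom = Ideal.ofList l := by
      rintro W rfl
      exact ⟨_, hreg', hker'⟩
    exact key _ (Scheme.Opens.ι_image_top _)

end Groth.Agent.RegImmLib
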