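import Mathlib
import Groth.Agent.KRegLib.Smooth

/-!
# Regular sequences cutting out sections of smooth algebras
-/

set_option autoImplicit false
set_option linter.style.haveILetI false
set_option backward.isDefEq.respectTransparency false

universe u

open Groth.Agent.WiebeLib TensorProduct RingTheory.Sequence
open Groth.Agent.KRegLib

namespace Groth.Agent.RegImmLib

attribute [local instance] MvPolynomial.algebraMvPolynomial

/-- The variables form a weakly regular sequence. -/
theorem isWeaklyRegular_X (k : Type u) [CommRing k] (n : ℕ) :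
    IsWeaklyRegular (MvPolynomial (Fin n) k) (List.ofFn (MvPolynomial.X : Fin n → MvPolynomial (Fin n) k)) := by
  classical
  refine ⟨fun i hi => IsSMulRegular.of_right_eq_zero_of_smul fun f hf => ?_⟩
  obtain ⟨f, rfl⟩ := Submodule.Quotient.mk_surjective _ f
  rw [← Submodule.Quotient.mk_smul, Submodule.Quotient.mk_eq_zero] at hf
  rw [Submodule.Quotient.mk_eq_zero]
  have hin : i < n := by simpa using hi
  have hJ : (Ideal.ofList ((List.ofFn (MvPolynomial.X : Fin n → MvPolynomial (Fin n) k)).take i) •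
      (⊤ : Submodule (MvPolynomial (Fin n) k) (MvPolynomial (Fin n) k))) =
      Ideal.span (MvPolynomial.X '' {j : Fin n | (j : ℕ) < i}) := by
    rw [smul_eq_mul, Ideal.mul_top]
    refine congrArg Ideal.span (Set.ext fun p => ?_)
    simp only [Set.mem_setOf_eq, Set.mem_image, List.mem_take_iff_getElem, List.getElem_ofFn]
    constructor
    · rintro ⟨j, hj, rfl⟩; exact ⟨⟨j, by simp at hj; omega⟩, by simp at hj ⊢; omega, rfl⟩
    · rintro ⟨j, hj, rfl⟩; exact ⟨j, by simp; omega, rfl⟩
  rw [hJ, MvPolynomial.mem_ideal_span_X_image] at hf ⊢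
  intro d hd
  have hd' : Finsupp.single (⟨i, hin⟩ : Fin n) 1 + d ∈
      ((List.ofFn (MvPolynomial.X : Fin n → MvPolynomial (Fin n) k))[i] • f).support := by
    rw [MvPolynomial.mem_support_iff, smul_eq_mul, List.getElem_ofFn, MvPolynomial.coeff_X_mul]
    exact MvPolynomial.mem_support_iff.1 hd
  obtain ⟨j, hj, hne⟩ := hf _ hd'
  refine ⟨j, hj, ?_⟩
  have hji : (⟨i, hin⟩ : Fin n) ≠ j := fun h => by rw [← h] at hj; exact lt_irrefl i hj
  rwa [Finsupp.add_apply, Finsupp.single_eq_of_ne' hji, zero_add] at hne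

/-- Translated variables form a weakly regular sequence. -/
theorem isWeaklyRegular_X_sub {R : Type u} [CommRing R] {n : ℕ} (a : Fin n → R) :
    IsWeaklyRegular (MvPolynomial (Fin n) R)
      (List.ofFn fun i : Fin n => (MvPolynomial.X i - MvPolynomial.C (a i) : MvPolynomial (Fin n) R)) := by
  let φ : MvPolynomial (Fin n) R →ₐ[R] MvPolynomial (Fin n) R :=
    MvPolynomial.aeval fun i => MvPolynomial.X i - MvPolynomial.C (a i)
  let ψ : MvPolynomial (Fin n) R →ₐ[R] MvPolynomial (Fin n) R :=
    MvPolynomial.aeval fun i => MvPolynomial.X i + MvPolynomial.C (a i)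
  let e : MvPolynomial (Fin n) R ≃ₐ[R] MvPolynomial (Fin n) R := AlgEquiv.ofAlgHom φ ψ
    (MvPolynomial.algHom_ext fun i => by simp [φ, ψ]) (MvPolynomial.algHom_ext fun i => by simp [φ, ψ])
  refine (AddEquiv.isWeaklyRegular_congr (e := e.toRingEquiv.toAddEquiv)
    (as := List.ofFn (MvPolynomial.X : Fin n → MvPolynomial (Fin n) R)) ?_).1 (isWeaklyRegular_X R n)
  have h1 : (List.ofFn fun i : Fin n => (MvPolynomial.X i - MvPolynomial.C (a i) : MvPolynomial (Fin n) R)) =
      (List.ofFn (MvPolynomial.X : Fin n → MvPolynomial (Fin n) R)).map e := by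
    rw [List.map_ofFn]
    exact congrArg List.ofFn (funext fun i => (MvPolynomial.aeval_X (fun i : Fin n => (MvPolynomial.X i - MvPolynomial.C (a i) : MvPolynomial (Fin n) R)) i).symm)
  rw [h1]
  exact List.forall₂_map_right_iff.2 (List.forall₂_same.2 fun r _ x => map_mul e r x)

/-- Coordinates at a point, when the smooth algebra is étale over a polynomial ring. -/
theorem exists_coordinates_aux_reg {C T R : Type u} [CommRing C] [CommRing T] [CommRing R] {n : ℕ}
    [Algebra (MvPolynomial (Fin n) C) T] [Algebra.Etale (MvPolynomial (Fin n) C) T] [Algebra C T]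
    [IsScalarTower C (MvPolynomial (Fin n) C) T] [Algebra C R] (hR : Function.Surjective (algebraMap C R))
    (Φ : T →ₐ[C] R) (𝔭 : Ideal T) [𝔭.IsPrime] (h𝔭 : RingHom.ker Φ.toRingHom ≤ 𝔭) :
    ∃ (f : Fin n → T) (N : Type u) (_ : CommRing N) (_ : Algebra C N) (q : T →ₐ[C] N),
      Algebra.Etale C N ∧ IsWeaklyRegular T (List.ofFn f) ∧ Function.Surjective q ∧ RingHom.ker q.toRingHom = Ideal.span (Set.range f) ∧
      (∀ i, f i ∈ RingHom.ker Φ.toRingHom) ∧
      (∀ u : Fin n → T, ∑ i, u i * f i ∈ (𝔭.comap (algebraMap C T)).map (algebraMap C T) → ∀ i, u i ∈ 𝔭) ∧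
      ∃ δ : T, δ ∉ 𝔭 ∧ ∀ x ∈ RingHom.ker Φ.toRingHom,
        δ * x ∈ (RingHom.ker (algebraMap C R)).map (algebraMap C T) ⊔ Ideal.span (Set.range f) := by
  classical
  let P := MvPolynomial (Fin n) C
  choose c hc using fun i => hR (Φ (algebraMap P T (MvPolynomial.X i)))
  let f : Fin n → T := fun i => algebraMap P T (MvPolynomial.X i - MvPolynomial.C (c i))
  have hfΦ : ∀ i, f i ∈ RingHom.ker Φ.toRingHom := fun i => by
    show Φ (algebraMap P T (MvPolynomial.X i - MvPolynomial.C (c i))) = 0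
    rw [map_sub, map_sub, ← MvPolynomial.algebraMap_eq, ← IsScalarTower.algebraMap_apply C P T, AlgHom.commutes,
      hc, sub_self]
  have hf𝔭 : ∀ i, f i ∈ 𝔭 := fun i => h𝔭 (hfΦ i)
  have hfex : IsWeaklyRegular T (List.ofFn f) := by
    have h := (isWeaklyRegular_X_sub c).of_flat (S := T)
    rw [List.map_ofFn] at h
    exact h
  letI : Algebra P C := (MvPolynomial.aeval c : P →ₐ[C] C).toRingHom.toAlgebra
  haveI : IsScalarTower C P C := IsScalarTower.of_algebraMap_eq (R := C) (S := P) (A := C) fun x =>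
    ((MvPolynomial.aeval c : P →ₐ[C] C).commutes x).symm
  let N := C ⊗[P] T
  let q : T →ₐ[C] N := (Algebra.TensorProduct.includeRight : T →ₐ[P] N).restrictScalars C
  have hq : Function.Surjective q := fun z => by
    induction z using TensorProduct.induction_on with
    | zero => exact ⟨0, map_zero q⟩
    | tmul a t =>
      refine ⟨algebraMap C P a • t, ?_⟩
      show (1 : C) ⊗ₜ[P] (algebraMap C P a • t) = a ⊗ₜ[P] t
      rw [← TensorProduct.smul_tmul, Algebra.smul_def, mul_one, ← IsScalarTower.algebraMap_apply]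
      rfl
    | add x y hx hy =>
      obtain ⟨x', rfl⟩ := hx
      obtain ⟨y', rfl⟩ := hy
      exact ⟨x' + y', map_add q x' y'⟩
  have hker : RingHom.ker q.toRingHom = Ideal.span (Set.range f) := by
    refine le_antisymm (fun t ht => ?_) (Ideal.span_le.2 ?_)
    · let M := T ⧸ Ideal.span (Set.range f)
      have hcomp : ((Ideal.Quotient.mk (Ideal.span (Set.range f))).comp (algebraMap P T)) =
          (algebraMap C M).comp (algebraMap P C) := by
        refine MvPolynomial.ringHom_ext (fun a => ?_) (fun i => ?_)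
        · show Ideal.Quotient.mk (Ideal.span (Set.range f)) (algebraMap P T (algebraMap C P a)) =
            algebraMap C M (algebraMap P C (algebraMap C P a))
          rw [← IsScalarTower.algebraMap_apply C P T, ← IsScalarTower.algebraMap_apply C P C]
          rfl
        · show Ideal.Quotient.mk (Ideal.span (Set.range f)) (algebraMap P T (MvPolynomial.X i)) =
            algebraMap C M ((MvPolynomial.aeval c : P →ₐ[C] C) (MvPolynomial.X i))
          rw [MvPolynomial.aeval_X, IsScalarTower.algebraMap_apply C T M, Ideal.Quotient.algebraMap_eq,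
            Ideal.Quotient.mk_eq_mk_iff_sub_mem, IsScalarTower.algebraMap_apply C P T, ← map_sub]
          exact Ideal.subset_span ⟨i, rfl⟩
      let L : C →ₐ[P] M := ⟨algebraMap C M, fun x => (RingHom.congr_fun hcomp x).symm⟩
      let β : N →ₐ[P] M := Algebra.TensorProduct.lift L (Ideal.Quotient.mkₐ P _) fun _ _ => Commute.all _ _
      have h1 : β ((1 : C) ⊗ₜ[P] t) = Ideal.Quotient.mk (Ideal.span (Set.range f)) t := by
        show β _ = _
        rw [Algebra.TensorProduct.lift_tmul, map_one, one_mul]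
        rfl
      rw [← Ideal.Quotient.eq_zero_iff_mem, ← h1, show (1 : C) ⊗ₜ[P] t = 0 from ht, map_zero]
    · rintro _ ⟨i, rfl⟩
      show (1 : C) ⊗ₜ[P] (algebraMap P T (MvPolynomial.X i - MvPolynomial.C (c i))) = 0
      rw [Algebra.algebraMap_eq_smul_one, ← TensorProduct.smul_tmul, Algebra.smul_def, mul_one,
        show algebraMap P C (MvPolynomial.X i - MvPolynomial.C (c i)) = 0 by
          show (MvPolynomial.aeval c : P →ₐ[C] C) _ = 0
          simp, TensorProduct.zero_tmul]
  haveI hN : Algebra.Etale C N := inferInstance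
  have hfib := coordinates_fibre c 𝔭 hf𝔭
  refine ⟨f, N, inferInstance, inferInstance, q, hN, hfex, hq, hker, hfΦ, hfib, ?_⟩
  -- the section is cut out by an idempotent
  let I := RingHom.ker (algebraMap C R)
  have hle : RingHom.ker q.toRingHom ≤ RingHom.ker Φ.toRingHom :=
    hker.trans_le (Ideal.span_le.2 (Set.range_subset_iff.2 hfΦ))
  let Ψr : N →+* R := RingHom.liftOfSurjective q.toRingHom hq ⟨Φ.toRingHom, hle⟩
  have hΨq : ∀ t, Ψr (q t) = Φ t := fun t =>
    RingHom.congr_fun (RingHom.liftOfRightInverse_comp q.toRingHom _ (Function.rightInverse_surjInv hq) ⟨Φ.toRingHom, hle⟩) t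
  let Ψ₀ : N →ₐ[C] R := ⟨Ψr, fun x => by
    rw [← q.commutes x]
    exact (hΨq _).trans (Φ.commutes x)⟩
  haveI : Algebra.FiniteType C N := inferInstance
  obtain ⟨e₁, he₁, hkill⟩ := exists_idempotent_kill hR Ψ₀
  obtain ⟨e₀, he₀⟩ := hq e₁
  have heΦ : Φ e₀ = 0 := by
    rw [← hΨq, he₀]
    exact he₁
  refine ⟨1 - e₀, fun hmem => ?_, fun x hx => ?_⟩
  · exact (Ideal.IsPrime.ne_top' (I := 𝔭)) ((Ideal.eq_top_iff_one _).2 (by
      simpa using add_mem hmem (h𝔭 (show e₀ ∈ RingHom.ker Φ.toRingHom from heΦ))))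
  · have h0 := hkill (q x) ((hΨq x).trans hx)
    rw [← he₀, ← map_one q, ← map_sub, ← map_mul] at h0
    have h1 : q.toRingHom ((1 - e₀) * x) ∈ ((I.map (algebraMap C T)).map q.toRingHom) := by
      rw [Ideal.map_map, show q.toRingHom.comp (algebraMap C T) = algebraMap C N from q.comp_algebraMap]
      exact h0
    have h2 : (1 - e₀) * x ∈ ((I.map (algebraMap C T)).map q.toRingHom).comap q.toRingHom := h1
    rwa [Ideal.comap_map_of_surjective q.toRingHom hq, ← RingHom.ker_eq_comap_bot, hker] at h2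

set_option maxHeartbeats 1000000 in
/-- Coordinates at a point of a smooth algebra with a map onto a quotient of the base. -/
theorem exists_coordinates_reg {C E R : Type u} [CommRing C] [CommRing E] [CommRing R] [Algebra C E]
    [Algebra.Smooth C E] [Algebra C R] (hR : Function.Surjective (algebraMap C R)) (Φ : E →ₐ[C] R)
    (𝔭 : Ideal E) [h𝔭p : 𝔭.IsPrime] (h𝔭 : RingHom.ker Φ.toRingHom ≤ 𝔭) :
    ∃ (G : E) (T : Type u) (_ : CommRing T) (_ : Algebra E T) (_ : Algebra C T) (_ : IsScalarTower C E T)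
      (n : ℕ) (f : Fin n → T) (N : Type u) (_ : CommRing N) (_ : Algebra C N) (q : T →ₐ[C] N),
      G ∉ 𝔭 ∧ IsLocalization.Away G T ∧ Module.Flat C N ∧ Algebra.FinitePresentation C N ∧ IsWeaklyRegular T (List.ofFn f) ∧
      Function.Surjective q ∧ RingHom.ker q.toRingHom = Ideal.span (Set.range f) ∧
      (RingHom.ker Φ.toRingHom).map (algebraMap E T) =
        (RingHom.ker (algebraMap C R)).map (algebraMap C T) ⊔ Ideal.span (Set.range f) ∧
      ∀ u : Fin n → T, ∑ i, u i * f i ∈ (𝔭.comap (algebraMap C E)).map (algebraMap C T) →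
        ∀ i, u i ∈ 𝔭.map (algebraMap E T) := by
  classical
  haveI : Algebra.IsSmoothAt C 𝔭 := Set.eq_univ_iff_forall.mp
    (Algebra.smoothLocus_eq_univ_iff.mpr (inferInstance : Algebra.FormallySmooth C E)) ⟨𝔭, h𝔭p⟩
  obtain ⟨g, hg, n, algP, towP, hse⟩ := Algebra.IsSmoothAt.exists_isStandardEtale_mvPolynomial (R := C) (p := 𝔭)
  obtain ⟨γ, hγ⟩ := hR (Φ g)
  have hγ𝔭 : algebraMap C E γ ∉ 𝔭 := fun h => hg (by
    have : g - algebraMap C E γ ∈ 𝔭 := h𝔭 (by
      show Φ (g - algebraMap C E γ) = 0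
      rw [map_sub, AlgHom.commutes, hγ, sub_self])
    simpa using add_mem this h)
  let E₁ := Localization.Away g
  obtain ⟨h𝔭₁, h𝔭₁c⟩ := exists_prime_of_away E₁ 𝔭 hg
  obtain ⟨C', _, _, hC'⟩ : ∃ (C' : Type u) (_ : CommRing C') (_ : Algebra C C'), IsLocalization.Away γ C' :=
    ⟨Localization.Away γ, inferInstance, inferInstance, inferInstance⟩
  let P := MvPolynomial (Fin n) C
  let P' := MvPolynomial (Fin n) C'
  obtain ⟨T₀, _, _, hT₀⟩ : ∃ (T₀ : Type u) (_ : CommRing T₀) (_ : Algebra E₁ T₀),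
      IsLocalization.Away (algebraMap E E₁ (algebraMap C E γ)) T₀ :=
    ⟨Localization.Away (algebraMap E E₁ (algebraMap C E γ)), inferInstance, inferInstance, inferInstance⟩
  letI : Algebra E T₀ := ((algebraMap E₁ T₀).comp (algebraMap E E₁)).toAlgebra
  haveI : IsScalarTower E E₁ T₀ := IsScalarTower.of_algebraMap_eq (R := E) (S := E₁) (A := T₀) fun _ => rfl
  letI : Algebra C T₀ := ((algebraMap E T₀).comp (algebraMap C E)).toAlgebra
  haveI : IsScalarTower C E T₀ := IsScalarTower.of_algebraMap_eq (R := C) (S := E) (A := T₀) fun _ => rfl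
  letI : Algebra P T₀ := ((algebraMap E₁ T₀).comp (algebraMap P E₁)).toAlgebra
  haveI : IsScalarTower P E₁ T₀ := IsScalarTower.of_algebraMap_eq (R := P) (S := E₁) (A := T₀) fun _ => rfl
  haveI : IsScalarTower C P T₀ := IsScalarTower.of_algebraMap_eq (R := C) (S := P) (A := T₀) fun x => by
    show algebraMap E₁ T₀ (algebraMap E E₁ (algebraMap C E x)) = algebraMap E₁ T₀ (algebraMap P E₁ (algebraMap C P x))
    rw [← IsScalarTower.algebraMap_apply C P E₁, ← IsScalarTower.algebraMap_apply C E E₁]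
  obtain ⟨G₀, hG₀, hGT₀⟩ := exists_away_away E₁ 𝔭 hg _ (fun h => hγ𝔭 (h𝔭₁c ▸ h)) T₀
  haveI := hGT₀
  obtain ⟨h𝔭₀, h𝔭₀c⟩ := exists_prime_of_away T₀ 𝔭 hG₀
  have hγT : IsUnit (algebraMap C T₀ γ) :=
    IsLocalization.Away.algebraMap_isUnit (S := T₀) (algebraMap E E₁ (algebraMap C E γ))
  letI : Algebra C' T₀ := (IsLocalization.Away.lift (g := algebraMap C T₀) γ hγT : C' →+* T₀).toAlgebra
  haveI : IsScalarTower C C' T₀ := IsScalarTower.of_algebraMap_eq (R := C) (S := C') (A := T₀) fun x => by
    show algebraMap C T₀ x = (IsLocalization.Away.lift (g := algebraMap C T₀) γ hγT : C' →+* T₀) (algebraMap C C' x)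
    rw [IsLocalization.Away.lift_eq]
  letI : Algebra P P' := (MvPolynomial.map (algebraMap C C')).toAlgebra
  haveI : IsLocalization.Away (algebraMap C P γ) P' := by
    have := MvPolynomial.isLocalization (σ := Fin n) (Submonoid.powers γ) C'
    rwa [Submonoid.map_powers] at this
  letI : Algebra P' T₀ := (MvPolynomial.eval₂Hom (algebraMap C' T₀)
    fun i => algebraMap P T₀ (MvPolynomial.X i)).toAlgebra
  haveI : IsScalarTower P P' T₀ := IsScalarTower.of_algebraMap_eq' (R := P) (S := P') (A := T₀) (by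
    refine MvPolynomial.ringHom_ext (fun a => ?_) (fun i => ?_)
    · show algebraMap P T₀ (algebraMap C P a) =
        MvPolynomial.eval₂Hom _ _ (MvPolynomial.map (algebraMap C C') (MvPolynomial.C a))
      rw [MvPolynomial.map_C, MvPolynomial.eval₂Hom_C, ← IsScalarTower.algebraMap_apply C P T₀,
        ← IsScalarTower.algebraMap_apply C C' T₀]
    · show _ = MvPolynomial.eval₂Hom _ _ (MvPolynomial.map (algebraMap C C') (MvPolynomial.X i))
      rw [MvPolynomial.map_X, MvPolynomial.eval₂Hom_X'])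
  haveI : IsScalarTower C' P' T₀ := IsScalarTower.of_algebraMap_eq (R := C') (S := P') (A := T₀) fun x => by
    show _ = MvPolynomial.eval₂Hom _ _ (MvPolynomial.C x)
    rw [MvPolynomial.eval₂Hom_C]
  haveI : Algebra.Etale P E₁ := inferInstance
  haveI : Algebra.Etale E₁ T₀ := Algebra.Etale.of_isLocalizationAway (algebraMap E E₁ (algebraMap C E γ))
  haveI : Algebra.Etale P T₀ := Algebra.Etale.comp P E₁ T₀
  haveI : Algebra.Etale P P' := Algebra.Etale.of_isLocalizationAway (algebraMap C P γ)
  haveI : Algebra.Etale P' T₀ := Algebra.Etale.of_restrictScalars P P' T₀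
  -- the map to the localised quotient
  obtain ⟨R', _, _, hR'⟩ : ∃ (R' : Type u) (_ : CommRing R') (_ : Algebra R R'),
      IsLocalization.Away (algebraMap C R γ) R' :=
    ⟨Localization.Away (algebraMap C R γ), inferInstance, inferInstance, inferInstance⟩
  letI : Algebra C R' := ((algebraMap R R').comp (algebraMap C R)).toAlgebra
  have hγR : IsUnit (algebraMap C R' γ) := IsLocalization.Away.algebraMap_isUnit (S := R') (algebraMap C R γ)
  letI : Algebra C' R' := (IsLocalization.Away.map C' R' (algebraMap C R) γ).toAlgebra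
  have hC'R : ∀ x, algebraMap C' R' (algebraMap C C' x) = algebraMap R R' (algebraMap C R x) := fun x => by
    show IsLocalization.Away.map C' R' (algebraMap C R) γ (algebraMap C C' x) = _
    rw [IsLocalization.Away.map, IsLocalization.map_eq]
  have hR'surj : Function.Surjective (algebraMap C' R') := away_map_surjective hR γ
  let Φ₁ : E₁ →+* R' := IsLocalization.Away.lift (g := (algebraMap R R').comp Φ.toRingHom) g (by
    show IsUnit (algebraMap R R' (Φ g))
    rw [← hγ]
    exact hγR)
  have hΦ₁ : ∀ x, Φ₁ (algebraMap E E₁ x) = algebraMap R R' (Φ x) := fun x => IsLocalization.Away.lift_eq _ _ x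
  let Φ₀ : T₀ →+* R' := IsLocalization.Away.lift (g := Φ₁) (algebraMap E E₁ (algebraMap C E γ)) (by
    rw [hΦ₁, AlgHom.commutes]
    exact hγR)
  have hΦ₀ : ∀ x, Φ₀ (algebraMap E T₀ x) = algebraMap R R' (Φ x) := fun x =>
    (IsLocalization.Away.lift_eq _ _ _).trans (hΦ₁ x)
  have hΦ₀C : Φ₀.comp (algebraMap C' T₀) = algebraMap C' R' := by
    refine IsLocalization.ringHom_ext (Submonoid.powers γ) (RingHom.ext fun x => ?_)
    show Φ₀ (algebraMap C' T₀ (algebraMap C C' x)) = algebraMap C' R' (algebraMap C C' x)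
    rw [← IsScalarTower.algebraMap_apply C C' T₀, IsScalarTower.algebraMap_apply C E T₀, hΦ₀, AlgHom.commutes,
      hC'R]
  let Φ' : T₀ →ₐ[C'] R' := ⟨Φ₀, RingHom.congr_fun hΦ₀C⟩
  have hker₀ : RingHom.ker Φ₀ = (RingHom.ker Φ.toRingHom).map (algebraMap E T₀) := by
    refine le_antisymm (fun z hz => ?_) (Ideal.map_le_iff_le_comap.2 fun x hx => ?_)
    · obtain ⟨⟨x, s⟩, hxs⟩ := IsLocalization.surj (Submonoid.powers G₀) z
      have h1 : algebraMap R R' (Φ x) = 0 := by
        rw [← hΦ₀, ← hxs, map_mul, show Φ₀ z = 0 from hz, zero_mul]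
      obtain ⟨⟨_, k, rfl⟩, hk⟩ :=
        (IsLocalization.map_eq_zero_iff (Submonoid.powers (algebraMap C R γ)) R' _).1 h1
      have hu : IsUnit (algebraMap E T₀ (algebraMap C E γ ^ k)) := by
        rw [map_pow, ← IsScalarTower.algebraMap_apply]
        exact hγT.pow k
      rw [← Ideal.unit_mul_mem_iff_mem _ (hu.mul (IsLocalization.map_units T₀ s)), mul_assoc,
        mul_comm (algebraMap E T₀ s) z, hxs, ← map_mul]
      refine Ideal.mem_map_of_mem _ ?_
      show Φ (algebraMap C E γ ^ k * x) = 0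
      rw [map_mul, map_pow, AlgHom.commutes]
      exact hk
    · show Φ₀ (algebraMap E T₀ x) = 0
      rw [hΦ₀, show Φ x = 0 from hx, map_zero]
  obtain ⟨f, N, _, _, q, hNet, hfex, hq, hqk, hfΦ, hfib, δ, hδ, hδK⟩ := exists_coordinates_aux_reg (C := C') (T := T₀) (n := n) hR'surj Φ'
    (𝔭.map (algebraMap E T₀)) (hker₀.trans_le (Ideal.map_mono h𝔭))
  haveI := hNet
  obtain ⟨T, _, _, hT⟩ : ∃ (T : Type u) (_ : CommRing T) (_ : Algebra T₀ T), IsLocalization.Away δ T :=
    ⟨Localization.Away δ, inferInstance, inferInstance, inferInstance⟩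
  letI : Algebra E T := ((algebraMap T₀ T).comp (algebraMap E T₀)).toAlgebra
  haveI : IsScalarTower E T₀ T := IsScalarTower.of_algebraMap_eq (R := E) (S := T₀) (A := T) fun _ => rfl
  letI : Algebra C T := ((algebraMap T₀ T).comp (algebraMap C T₀)).toAlgebra
  haveI : IsScalarTower C T₀ T := IsScalarTower.of_algebraMap_eq (R := C) (S := T₀) (A := T) fun _ => rfl
  haveI : IsScalarTower C E T := IsScalarTower.of_algebraMap_eq (R := C) (S := E) (A := T) fun _ => rfl
  obtain ⟨G, hG, hGT⟩ := exists_away_away T₀ 𝔭 hG₀ δ hδ T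
  haveI := hGT
  letI : Algebra C N := ((algebraMap C' N).comp (algebraMap C C')).toAlgebra
  haveI : IsScalarTower C C' N := IsScalarTower.of_algebraMap_eq (R := C) (S := C') (A := N) fun _ => rfl
  haveI : Algebra.Etale C C' := Algebra.Etale.of_isLocalizationAway γ
  haveI : Algebra.Etale C N := Algebra.Etale.comp C C' N
  obtain ⟨N₁, _, _, hN₁⟩ : ∃ (N₁ : Type u) (_ : CommRing N₁) (_ : Algebra N N₁), IsLocalization.Away (q δ) N₁ :=
    ⟨Localization.Away (q δ), inferInstance, inferInstance, inferInstance⟩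
  letI : Algebra C N₁ := ((algebraMap N N₁).comp (algebraMap C N)).toAlgebra
  haveI : IsScalarTower C N N₁ := IsScalarTower.of_algebraMap_eq (R := C) (S := N) (A := N₁) fun _ => rfl
  haveI : IsLocalization.Away (q.toRingHom δ) N₁ := hN₁
  haveI : Algebra.Etale N N₁ := Algebra.Etale.of_isLocalizationAway (q δ)
  haveI : Algebra.Etale C N₁ := Algebra.Etale.comp C N N₁
  let q₁ : T →+* N₁ := IsLocalization.Away.map T N₁ q.toRingHom δ
  let q' : T →ₐ[C] N₁ := ⟨q₁, fun x => by
    show q₁ (algebraMap T₀ T (algebraMap C T₀ x)) = _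
    refine (IsLocalization.map_eq _ _).trans ?_
    show algebraMap N N₁ (q (algebraMap C T₀ x)) = algebraMap N N₁ (algebraMap C N x)
    rw [IsScalarTower.algebraMap_apply C C' T₀, AlgHom.commutes]
    rfl⟩
  have hδf : Module.Flat T₀ T := IsLocalization.flat T (Submonoid.powers δ)
  refine ⟨G, T, inferInstance, inferInstance, inferInstance, inferInstance, n, fun i => algebraMap T₀ T (f i), N₁,
    inferInstance, inferInstance, q', hG, hGT, inferInstance, inferInstance, (by have h := hfex.of_flat (S := T); rw [List.map_ofFn] at h; exact h),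
    away_map_surjective hq δ, ?_, ?_, ?_⟩
  · refine (IsLocalization.ker_map N₁ q.toRingHom (Submonoid.map_powers q.toRingHom δ)).trans ?_
    rw [hqk, Ideal.map_span, ← Set.range_comp]
    rfl
  · have hI' : RingHom.ker (algebraMap C' R') = (RingHom.ker (algebraMap C R)).map (algebraMap C C') :=
      IsLocalization.ker_map R' (algebraMap C R) (Submonoid.map_powers _ γ)
    have hfK : Ideal.span (Set.range f) ≤ (RingHom.ker Φ.toRingHom).map (algebraMap E T₀) := by
      rw [← hker₀]
      exact Ideal.span_le.2 (Set.range_subset_iff.2 hfΦ)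
    have hcomb : ((RingHom.ker (algebraMap C' R')).map (algebraMap C' T₀) ⊔ Ideal.span (Set.range f)).map
        (algebraMap T₀ T) = (RingHom.ker (algebraMap C R)).map (algebraMap C T) ⊔
          Ideal.span (Set.range fun i => algebraMap T₀ T (f i)) := by
      rw [Ideal.map_sup, hI', Ideal.map_map, Ideal.map_map, Ideal.map_span, ← Set.range_comp]
      congr 2
      · rw [RingHom.comp_assoc, ← IsScalarTower.algebraMap_eq C C' T₀]
        rfl
    rw [← hcomb, IsScalarTower.algebraMap_eq E T₀ T, ← Ideal.map_map]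
    refine le_antisymm ?_ (Ideal.map_mono (sup_le ?_ hfK))
    · rw [Ideal.map_le_iff_le_comap, ← hker₀]
      intro x hx
      rw [Ideal.mem_comap, ← Ideal.unit_mul_mem_iff_mem _ (IsLocalization.Away.algebraMap_isUnit (S := T) δ),
        ← map_mul]
      exact Ideal.mem_map_of_mem _ (hδK x hx)
    · rw [← hker₀, Ideal.map_le_iff_le_comap]
      intro x hx
      show Φ₀ (algebraMap C' T₀ x) = 0
      exact (RingHom.congr_fun hΦ₀C x).trans hx
  · intro u hu
    let 𝔭₀ := 𝔭.map (algebraMap E T₀)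
    obtain ⟨s, hs⟩ := IsLocalization.exist_integer_multiples_of_finite (Submonoid.powers δ) u
    choose v hv using hs
    have hsum : algebraMap T₀ T (∑ i, v i * f i) = algebraMap T₀ T s * ∑ i, u i * algebraMap T₀ T (f i) := by
      rw [map_sum, Finset.mul_sum]
      exact Finset.sum_congr rfl fun i _ => by rw [map_mul, hv, Algebra.smul_def, mul_assoc]
    have h1 : algebraMap T₀ T (∑ i, v i * f i) ∈
        ((𝔭₀.comap (algebraMap C' T₀)).map (algebraMap C' T₀)).map (algebraMap T₀ T) := by
      rw [hsum]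
      refine Ideal.mul_mem_left _ _ ((show (𝔭.comap (algebraMap C E)).map (algebraMap C T) ≤
        ((𝔭₀.comap (algebraMap C' T₀)).map (algebraMap C' T₀)).map (algebraMap T₀ T) from ?_) hu)
      rw [IsScalarTower.algebraMap_eq C T₀ T, ← Ideal.map_map, IsScalarTower.algebraMap_eq C C' T₀, ← Ideal.map_map]
      refine Ideal.map_mono (Ideal.map_mono (Ideal.map_le_iff_le_comap.2 fun x hx => ?_))
      show algebraMap C' T₀ (algebraMap C C' x) ∈ 𝔭₀
      rw [← IsScalarTower.algebraMap_apply, IsScalarTower.algebraMap_apply C E T₀]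
      exact Ideal.mem_map_of_mem _ hx
    obtain ⟨s', hs', hmem⟩ := (IsLocalization.algebraMap_mem_map_algebraMap_iff (Submonoid.powers δ) T _ _).1 h1
    intro i
    have h2 := hfib (fun i => s' * v i) (by simpa only [Finset.mul_sum, mul_assoc] using hmem) i
    have hnot : s' ∉ 𝔭₀ := by
      obtain ⟨k, rfl⟩ := hs'
      exact fun hk => hδ (h𝔭₀.mem_of_pow_mem k hk)
    have h3 : algebraMap T₀ T (v i) ∈ 𝔭₀.map (algebraMap T₀ T) :=
      Ideal.mem_map_of_mem _ ((h𝔭₀.mem_or_mem h2).resolve_left hnot)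
    rw [hv, Algebra.smul_def, Ideal.unit_mul_mem_iff_mem _ (IsLocalization.map_units T s)] at h3
    rw [IsScalarTower.algebraMap_eq E T₀ T, ← Ideal.map_map]
    exact h3

end Groth.Agent.RegImmLib
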