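import Mathlib
import Groth.Agent.RegImmLib.RegComp
import Groth.Agent.RegImmLib.SmoothReg
import Groth.Agent.KRegLib.Kinds

/-!
# Regular closed immersions into smooth schemes
-/

set_option autoImplicit false
set_option linter.style.haveILetI false
set_option backward.isDefEq.respectTransparency false
set_option backward.isDefEq.respectTransparency.types false

universe u

open AlgebraicGeometry CategoryTheory RingTheory.Sequence

namespace Groth.Agent.RegImmLib

open Groth.Agent.KRegLib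

theorem appLE_of_eq {Y S : Scheme.{u}} (j : Y ⟶ S) (U : S.Opens) :
    ∀ (O : Y.Opens) (_ : O = j ⁻¹ᵁ U) (e : O ≤ j ⁻¹ᵁ U),
      (Function.Surjective (j.app U) → Function.Surjective (j.appLE U O e)) ∧
        RingHom.ker (j.appLE U O e).hom = RingHom.ker (j.app U).hom := by
  rintro O rfl e
  rw [Scheme.Hom.appLE_eq_app]
  exact ⟨id, rfl⟩

set_option maxHeartbeats 1000000 in
/-- A regular closed immersion lifted to a smooth scheme is regular. -/
theorem regClosed_of_smooth {X Y S : Scheme.{u}} (p : X ⟶ S) [Smooth p] (i : Y ⟶ X) (j : Y ⟶ S)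
    [IsClosedImmersion i] [IsClosedImmersion j] (h : i ≫ p = j) (hj : Mor2.IsRegularClosedImmersion j) :
    Mor2.IsRegularClosedImmersion i := by
  refine ⟨inferInstance, fun y => ?_⟩
  obtain ⟨U, hU, hyU, rs, hrs, hker⟩ := hj.2 y
  rw [Scheme.Hom.ker_apply] at hker
  have hjy : ∀ z, j z = p (i z) := fun z => by rw [← h]; rfl
  obtain ⟨V, hV, hyV, hVle⟩ := exists_isAffineOpen_mem_and_subset (U := p ⁻¹ᵁ U) (x := i y)
    (show p (i y) ∈ U from (hjy y) ▸ hyU)
  have hle : V ≤ p ⁻¹ᵁ U := hVle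
  haveI : IsClosedImmersion (i ∣_ V) := inferInstance
  haveI : IsClosedImmersion (j ∣_ U) := inferInstance
  obtain ⟨hjU, hjs⟩ := Synt29.surjective_app_of_isClosedImmersion_restrict j U hU
  obtain ⟨hiV, his⟩ := Synt29.surjective_app_of_isClosedImmersion_restrict i V hV
  obtain ⟨g, g', hgg, hyg⟩ := exists_basicOpen_le_affine_inter hjU hiV y ⟨hyU, hyV⟩
  obtain ⟨a, rfl⟩ := hjs g
  obtain ⟨b, rfl⟩ := his g'
  let U' := S.basicOpen a
  have hU' : IsAffineOpen U' := hU.basicOpen a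
  let V0 := X.basicOpen (p.appLE U V hle a * b)
  have hV0 : IsAffineOpen V0 := hV.basicOpen _
  have hV0eq : V0 = (V ⊓ p ⁻¹ᵁ U') ⊓ X.basicOpen b := by
    show X.basicOpen _ = _
    rw [Scheme.basicOpen_mul, Scheme.basicOpen_appLE]
  have hle0 : V0 ≤ p ⁻¹ᵁ U' := hV0eq.trans_le (inf_le_left.trans inf_le_right)
  have hjU' : j ⁻¹ᵁ U' = Y.basicOpen (j.app U a) := Scheme.preimage_basicOpen j a
  have hpre : i ⁻¹ᵁ V0 = j ⁻¹ᵁ U' := by
    refine le_antisymm (fun z hz => ?_) (fun z hz => ?_)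
    · show j z ∈ U'
      rw [hjy]
      exact hle0 hz
    · have h1 : z ∈ i ⁻¹ᵁ X.basicOpen b := by
        rw [Scheme.preimage_basicOpen i b, ← hgg, ← hjU']
        exact hz
      show i z ∈ V0
      rw [hV0eq]
      exact ⟨⟨X.basicOpen_le b h1, show p (i z) ∈ U' by rw [← hjy]; exact hz⟩, h1⟩
  have hyV0 : i y ∈ V0 := by
    show y ∈ i ⁻¹ᵁ V0
    rw [hpre, hjU']
    exact hyg
  haveI : IsClosedImmersion (i ∣_ V0) := inferInstance
  obtain ⟨hiV0, hiV0s⟩ := Synt29.surjective_app_of_isClosedImmersion_restrict i V0 hV0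
  obtain ⟨rs', hrs', hker'⟩ := restrict_regular j hU a hrs.toIsWeaklyRegular hker
  obtain ⟨hjU'', hjU's⟩ := Synt29.surjective_app_of_isClosedImmersion_restrict j U' hU'
  letI : Algebra Γ(S, U') Γ(X, V0) := (p.appLE U' V0 hle0).hom.toAlgebra
  haveI : Algebra.Smooth Γ(S, U') Γ(X, V0) := p.smooth_appLE hU' hV0 hle0
  letI : Algebra Γ(S, U') Γ(Y, i ⁻¹ᵁ V0) := (j.appLE U' (i ⁻¹ᵁ V0) hpre.le).hom.toAlgebra
  obtain ⟨hRs, hRker⟩ := appLE_of_eq j U' (i ⁻¹ᵁ V0) hpre hpre.le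
  have hR : Function.Surjective (algebraMap Γ(S, U') Γ(Y, i ⁻¹ᵁ V0)) := hRs hjU's
  have hcomp : p.appLE U' V0 hle0 ≫ i.app V0 = j.appLE U' (i ⁻¹ᵁ V0) hpre.le := by
    subst h
    rw [Scheme.Hom.app_eq_appLE, Scheme.Hom.appLE_comp_appLE]
  let Φ : Γ(X, V0) →ₐ[Γ(S, U')] Γ(Y, i ⁻¹ᵁ V0) :=
    ⟨(i.app V0).hom, fun x => congr(($hcomp) x)⟩
  let 𝔭 := (hV0.primeIdealOf ⟨i y, hyV0⟩).asIdeal
  obtain ⟨G, T, _, _, _, _, n, f, N, _, _, q, hG, hGT, hNfl, -, hf, hq, hqker, hK, -⟩ :=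
    exists_coordinates_reg hR Φ 𝔭 (ker_app_le_primeIdealOf i hV0 hiV0 y hyV0)
  haveI := hGT
  haveI := hNfl
  let ls := rs'.map (algebraMap Γ(S, U') T)
  have hspan : Ideal.span (Set.range f) = Ideal.ofList (List.ofFn f) := span_range_eq_ofList f
  let K : Ideal T := Ideal.ofList (List.ofFn f) • (⊤ : Submodule T T)
  have hKq : K = RingHom.ker q.toRingHom := by
    rw [hqker, hspan]
    show Ideal.ofList (List.ofFn f) * ⊤ = _
    rw [Ideal.mul_top]
  let eN : (T ⧸ K) ≃+* N := (Ideal.quotEquivOfEq hKq).trans (RingHom.quotientKerEquivOfSurjective hq)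
  have happ : IsWeaklyRegular T (List.ofFn f ++ ls) := by
    rw [isWeaklyRegular_append_iff]
    refine ⟨hf, (eN.toAddEquiv.isWeaklyRegular_congr (as := ls)
      (bs := rs'.map (algebraMap Γ(S, U') N)) ?_).2 (hrs'.of_flat (S := N))⟩
    refine List.forall₂_map_left_iff.2 (List.forall₂_map_right_iff.2 (List.forall₂_same.2 fun r _ x => ?_))
    obtain ⟨x, rfl⟩ := Ideal.Quotient.mk_surjective x
    show q (algebraMap Γ(S, U') T r * x) = algebraMap Γ(S, U') N r * q x
    rw [map_mul, AlgHom.commutes]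
  have hTI : (RingHom.ker (i.app V0).hom).map (algebraMap Γ(X, V0) T) = Ideal.ofList (List.ofFn f ++ ls) := by
    refine hK.trans ?_
    rw [Ideal.ofList_append, hspan, sup_comm]
    congr 1
    show (RingHom.ker (j.appLE U' (i ⁻¹ᵁ V0) hpre.le).hom).map (algebraMap Γ(S, U') T) = _
    rw [hRker, hker']
    exact Ideal.map_ofList _ _
  let W := X.basicOpen G
  letI : Algebra Γ(X, V0) Γ(X, W) := (X.presheaf.map (homOfLE (X.basicOpen_le G)).op).hom.toAlgebra
  haveI : IsLocalization.Away G Γ(X, W) := hV0.isLocalization_basicOpen G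
  let e : T ≃ₐ[Γ(X, V0)] Γ(X, W) := IsLocalization.algEquiv (Submonoid.powers G) _ _
  have hyW : i y ∈ W := by
    rw [show W = X.basicOpen G from rfl, ← hV0.fromSpec_image_basicOpen G]
    exact ⟨hV0.primeIdealOf ⟨i y, hyV0⟩, hG, hV0.fromSpec_primeIdealOf _⟩
  refine ⟨W, hV0.basicOpen G, hyW, (List.ofFn f ++ ls).map e, ⟨?_, ?_⟩, ?_⟩
  · refine (AddEquiv.isWeaklyRegular_congr (e := e.toRingEquiv.toAddEquiv) (as := List.ofFn f ++ ls)
      (bs := (List.ofFn f ++ ls).map e) ?_).1 happ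
    exact List.forall₂_map_right_iff.2 (List.forall₂_same.2 fun x _ z => map_mul e x z)
  · intro htop
    haveI : Nonempty (i ⁻¹ᵁ W : Y.Opens) := ⟨⟨y, hyW⟩⟩
    have h1 : (1 : Γ(X, W)) ∈ RingHom.ker (i.app W).hom := by
      have : (1 : Γ(X, W)) ∈ Ideal.ofList ((List.ofFn f ++ ls).map e) • (⊤ : Submodule Γ(X, W) Γ(X, W)) :=
        htop.le Submodule.mem_top
      rw [smul_eq_mul, Ideal.mul_top] at this
      rw [(app_basicOpen_props i hV0 hiV0 hiV0s G).2.2]
      have h4 : (Ideal.ofList (List.ofFn f ++ ls)).map e.toRingEquiv.toRingHom =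
        Ideal.ofList ((List.ofFn f ++ ls).map e) := Ideal.map_ofList _ _
      rw [← h4, ← hTI, Ideal.map_map] at this
      rwa [show e.toRingEquiv.toRingHom.comp (algebraMap Γ(X, V0) T) =
        (X.presheaf.map (homOfLE (X.basicOpen_le G)).op).hom from RingHom.ext fun x => e.commutes x] at this
    rw [RingHom.mem_ker, map_one] at h1
    exact one_ne_zero h1
  · rw [Scheme.Hom.ker_apply]
    refine ((app_basicOpen_props i hV0 hiV0 hiV0s G).2.2).trans ?_
    have h4 : (Ideal.ofList (List.ofFn f ++ ls)).map e.toRingEquiv.toRingHom =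
        Ideal.ofList ((List.ofFn f ++ ls).map e) := Ideal.map_ofList _ _
    rw [← h4, ← hTI, Ideal.map_map]
    congr 1
    exact (RingHom.ext fun x => (e.commutes x)).symm

/-- Isomorphisms are regular closed immersions. -/
theorem regClosed_id (S : Scheme.{u}) : Mor2.IsRegularClosedImmersion (𝟙 S) := by
  refine ⟨inferInstance, fun z => ?_⟩
  obtain ⟨U, hU, hzU, -⟩ := exists_isAffineOpen_mem_and_subset (U := ⊤) (x := z) trivial
  haveI : Nonempty U := ⟨⟨z, hzU⟩⟩
  refine ⟨U, hU, hzU, [], IsRegular.nil _ _, ?_⟩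
  rw [Scheme.Hom.ker_apply, Ideal.ofList_nil, ← RingHom.injective_iff_ker_eq_bot]
  show Function.Injective ((𝟙 S : S ⟶ S).app U)
  rw [Scheme.Hom.id_app]
  exact fun a b hab => hab

end Groth.Agent.RegImmLib
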