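import Groth.Agent.S8855
import Groth.Agent.S8894
import Groth.Agent.S8896
import Groth.Agent.S8905
import Groth.Agent.GrpSchLib.SmoothRegular

/-!
# A closed immersion between smooth schemes is regular
-/

set_option autoImplicit false
set_option linter.style.haveILetI false

universe u

open AlgebraicGeometry CategoryTheory CategoryTheory.Limits TopologicalSpace

namespace Groth.Agent.RegImmLib

/-- A closed immersion between schemes smooth over a field is regular. -/
theorem quasi_of_smooth_field {K : Type u} [Field K] {Z X : Scheme.{u}} (i : Z ⟶ X) [IsImmersion i]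
    (p : X ⟶ Spec (CommRingCat.of K)) [Smooth p] [Smooth (i ≫ p)] :
    RegImm.IsRegularImmersion RegImm.Kind.quasi i := by
  haveI : IsLocallyNoetherian X := LocallyOfFiniteType.isLocallyNoetherian p
  haveI : IsLocallyNoetherian Z := LocallyOfFiniteType.isLocallyNoetherian (i ≫ p)
  have h := S8855.result i (fun x => GrpSchLib.isRegularLocalRing_stalk_of_smooth p x)
    (fun z => GrpSchLib.isRegularLocalRing_stalk_of_smooth (i ≫ p) z)
  exact (S8905.result i).2.2 ((S8905.result i).2.1 ((S8905.result i).1 h))

theorem ker_app_iso_comp {Z W X : Scheme.{u}} (q : Z ⟶ W) [IsIso q] (T : W ⟶ X) (i : Z ⟶ X) (h : q ≫ T = i)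
    (U : X.Opens) : RingHom.ker (i.app U).hom = RingHom.ker (T.app U).hom := by
  subst h
  ext a
  rw [RingHom.mem_ker, RingHom.mem_ker]
  show q.app (T ⁻¹ᵁ U) (T.app U a) = 0 ↔ _
  exact map_eq_zero_iff _ (ConcreteCategory.bijective_of_isIso (q.app (T ⁻¹ᵁ U))).1

/-- A closed immersion between smooth schemes is regular. -/
theorem regular_of_smooth {Z X S : Scheme.{u}} (φ : X ⟶ S) [Smooth φ] (i : Z ⟶ X) [IsClosedImmersion i]
    [Smooth (i ≫ φ)] : RegImm.IsRegularImmersion RegImm.Kind.regular i := by
  let T := i.ker.subschemeι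
  have hq : i.toImage ≫ T = i := i.toImage_imageι
  haveI : Smooth (T ≫ φ) := by
    have hT : T = inv i.toImage ≫ i := (IsIso.eq_inv_comp i.toImage).2 hq
    rw [hT, Category.assoc]
    infer_instance
  have hfib : ∀ s : S, RegImm.IsRegularImmersion RegImm.Kind.quasi (pullback.snd T (φ.fiberι s)) := fun s => by
    let q : φ.fiber s ⟶ Spec (S.residueField s) := φ.fiberToSpecResidueField s
    haveI : Smooth q := MorphismProperty.pullback_snd φ (S.fromSpecResidueField s) inferInstance
    haveI : Smooth (pullback.snd T (φ.fiberι s) ≫ q) :=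
      MorphismProperty.of_isPullback (f' := pullback.fst T (φ.fiberι s))
        ((IsPullback.of_hasPullback T (φ.fiberι s)).paste_vert
          (IsPullback.of_hasPullback φ (S.fromSpecResidueField s)))
        (show Smooth (T ≫ φ) from inferInstance)
    exact quasi_of_smooth_field (K := S.residueField s) _ q
  obtain ⟨-, hreg⟩ := (S8894.result φ T (S8896.result φ i.ker hfib)).1
  refine ⟨inferInstance, fun z => ?_⟩
  obtain ⟨U, hU, -, rs, hrs, hker⟩ := hreg (i.toImage z)
  refine ⟨U, ?_, inferInstance, rs, hrs, ?_⟩
  · rw [← hq]; exact hU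
  · exact (ker_app_iso_comp i.toImage T i hq U.1).trans hker

end Groth.Agent.RegImmLib
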