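import Groth.Agent.RegImmLib.RegStalk
import Groth.Agent.KRegLib.Perm
import Groth.Agent.KRegLib.WeakReg
import Groth.Agent.KRRReg.RegImm
import Groth.Agent.RegLoc6.Seq
import Groth.Agent.RegLoc6.Serre
import Groth.Prelude.Def_CInt

/-!
# Regular ideals in a tower of two surjections of local rings
-/

set_option autoImplicit false
set_option linter.style.haveILetI false
set_option backward.isDefEq.respectTransparency.types false

universe u

open AlgebraicGeometry CategoryTheory RingTheory.Sequence IsLocalRing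

namespace Groth.Agent.RegImmLib

section Local

variable {T S : Type u} [CommRing T] [CommRing S] [IsLocalRing T] [IsLocalRing S]
  (σ : T →+* S) (hσ : Function.Surjective σ)
include hσ

theorem ofList_le_maximal {rs : List T} (h : Ideal.ofList rs ≠ ⊤) : ∀ r ∈ rs, r ∈ maximalIdeal T := fun _ hr =>
  le_maximalIdeal h (Ideal.subset_span hr)

/-- Regular ideals compose. -/
theorem isRegularIdeal_comap (hK : CInt.IsRegularIdeal (RingHom.ker σ)) (I : Ideal S) (hI : CInt.IsRegularIdeal I) :
    CInt.IsRegularIdeal (I.comap σ) := by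
  obtain ⟨rs, hrs, hker⟩ := hK
  obtain ⟨ts, hts, hIts⟩ := hI
  choose l hl using hσ
  let ls := ts.map l
  have hls : ls.map σ = ts := by
    rw [List.map_map]
    exact (List.map_congr_left fun y _ => hl y).trans (List.map_id ts)
  let K : Ideal T := Ideal.ofList rs • (⊤ : Submodule T T)
  have hK : K = RingHom.ker σ := by
    rw [← hker]
    show Ideal.ofList rs * ⊤ = _
    rw [Ideal.mul_top]
  have hs : Function.Surjective σ := fun y => ⟨l y, hl y⟩
  let e : (T ⧸ K) ≃+* S := (Ideal.quotEquivOfEq hK).trans (RingHom.quotientKerEquivOfSurjective hs)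
  have happ : IsWeaklyRegular T (rs ++ ls) := by
    rw [isWeaklyRegular_append_iff]
    refine ⟨hrs.toIsWeaklyRegular, ?_⟩
    refine ((e.toAddEquiv).isWeaklyRegular_congr (as := ls) (bs := ts) ?_).2 hts.toIsWeaklyRegular
    rw [← hls]
    refine List.forall₂_map_right_iff.2 (List.forall₂_same.2 fun r _ x => ?_)
    obtain ⟨x, rfl⟩ := Ideal.Quotient.mk_surjective x
    show σ (r * x) = σ r * σ x
    exact map_mul _ _ _
  have hgen : Ideal.ofList (rs ++ ls) = I.comap σ := by
    rw [Ideal.ofList_append, hker, ← hIts, ← hls]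
    have h5 : (Ideal.ofList ls).map σ = Ideal.ofList (ls.map σ) := Ideal.map_ofList _ _
    rw [← h5, Ideal.comap_map_of_surjective _ hs, ← RingHom.ker_eq_comap_bot, sup_comm]
  refine ⟨rs ++ ls, RegLoc6.isRegular_iff_weakly _ (ofList_le_maximal σ hs ?_) happ, hgen⟩
  rw [hgen]
  intro htop
  have h1 : (1 : T) ∈ I.comap σ := htop ▸ trivial
  rw [Ideal.mem_comap, map_one] at h1
  refine hts.top_ne_smul ?_
  rw [smul_eq_mul, Ideal.mul_top, hIts, (Ideal.eq_top_iff_one I).2 h1]

variable [IsNoetherianRing T]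

/-- A regular ideal containing the kernel splits when the quotient has finite projective dimension. -/
theorem isRegularIdeal_split (J : Ideal T) (hJ : CInt.IsRegularIdeal J) (hle : RingHom.ker σ ≤ J) {D : ℕ}
    (hpd : RegLoc6.PdLE S D (S ⧸ J.map σ)) :
    CInt.IsRegularIdeal (RingHom.ker σ) ∧ CInt.IsRegularIdeal (J.map σ) := by
  obtain ⟨us, hus, rfl⟩ := hJ
  have hne : Ideal.ofList us ≠ ⊤ := fun h => hus.top_ne_smul (by rw [smul_eq_mul, Ideal.mul_top, h])
  have hspan : Ideal.span (Set.range us.get) = Ideal.ofList us := by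
    rw [span_range_eq_ofList, List.ofFn_get]
  have hm := ofList_le_maximal σ hσ hne
  obtain ⟨⟨r, F, hF, hFs⟩, t, G, hG, hGs⟩ := KRegLib.exists_weaklyRegular_split σ hσ us.get
    (fun i => hm _ (List.get_mem _ _))
    (KRegLib.isExact_of_isWeaklyRegular us.get (by rw [List.ofFn_get]; exact hus.toIsWeaklyRegular))
    (hspan ▸ hle) (D := D) (by
      rw [show (Set.range fun i => σ (us.get i)) = σ '' Set.range us.get from Set.range_comp σ us.get,
        ← Ideal.map_span, hspan]
      exact hpd)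
  rw [hspan] at hGs
  rw [span_range_eq_ofList] at hFs hGs
  refine ⟨⟨_, RegLoc6.isRegular_iff_weakly _ (fun x hx => ?_) hF, hFs⟩,
    ⟨_, RegLoc6.isRegular_iff_weakly _ (fun x hx => ?_) hG, hGs⟩⟩
  · exact le_maximalIdeal (RingHom.ker_ne_top σ) (hFs ▸ Ideal.subset_span hx)
  · have hxJ : x ∈ (Ideal.ofList us).map σ := hGs ▸ Ideal.subset_span hx
    obtain ⟨y, hy, rfl⟩ := (Ideal.mem_map_iff_of_surjective σ hσ).1 hxJ
    exact (KRegLib.maximalIdeal_mem_iff σ hσ y).2 (le_maximalIdeal hne hy)

end Local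

theorem pdLE_of_isRegularIdeal {S : Type u} [CommRing S] (I : Ideal S) (hI : CInt.IsRegularIdeal I) :
    ∃ D, RegLoc6.PdLE S D (S ⧸ I) := by
  obtain ⟨rs, hrs, rfl⟩ := hI
  exact ⟨0 + rs.length, RegLoc6.pdLE_of_equiv
    (Submodule.quotEquivOfEq _ _ (by rw [smul_eq_mul, Ideal.mul_top]))
    (KRRReg.pdLE_weaklyRegular rs S 0 hrs.toIsWeaklyRegular (RegLoc6.pdLE_of_projective 0))⟩

variable {X Y Z : Scheme.{u}} [IsLocallyNoetherian X]

/-- Regular closed immersion near a point, in terms of the stalk. -/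
theorem regClosed_near_iff' (i : Y ⟶ X) [IsClosedImmersion i] (y : Y) :
    (∃ V : X.Opens, i y ∈ V ∧ Mor2.IsRegularClosedImmersion (i ∣_ V)) ↔
      CInt.IsRegularIdeal (RingHom.ker (i.stalkMap y).hom) := by
  rw [regClosed_near_iff]
  exact exists_congr fun rs => and_congr_right fun _ => eq_comm

theorem ker_stalkMap_comp (g : Z ⟶ Y) (f : Y ⟶ X) (z : Z) :
    RingHom.ker ((g ≫ f).stalkMap z).hom = (RingHom.ker (g.stalkMap z).hom).comap (f.stalkMap (g z)).hom := by
  rw [Scheme.Hom.stalkMap_comp, RingHom.comap_ker]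
  rfl

end Groth.Agent.RegImmLib
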